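/-
In a ring with finite spectrum every localisation at a prime is a localisation away from one element.
-/
import Mathlib

set_option autoImplicit false
set_option linter.style.haveILetI false
universe u

namespace Groth.Agent.AtPrimeAway

/-- An element outside `P` lying in every prime not contained in `P`. -/
theorem exists_elt {B : Type u} [CommRing B] [Finite (PrimeSpectrum B)] (P : Ideal B) [P.IsPrime] :
    ∃ f : B, f ∉ P ∧ ∀ Q : Ideal B, Q.IsPrime → f ∉ Q → Q ≤ P := by
  classical
  haveI := Fintype.ofFinite (PrimeSpectrum B)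
  have h : ∀ Q : PrimeSpectrum B, ∃ g : B, g ∉ P ∧ (¬ Q.asIdeal ≤ P → g ∈ Q.asIdeal) := fun Q => by
    by_cases hQ : Q.asIdeal ≤ P
    · exact ⟨1, fun h1 => (Ideal.IsPrime.ne_top inferInstance) ((Ideal.eq_top_iff_one P).mpr h1), fun h => absurd hQ h⟩
    · obtain ⟨g, hgQ, hgP⟩ := SetLike.not_le_iff_exists.mp hQ
      exact ⟨g, hgP, fun _ => hgQ⟩
  choose g hgP hgQ using h
  refine ⟨∏ Q, g Q, fun hmem => ?_, fun Q hQ hfQ => ?_⟩
  · obtain ⟨Q, -, hQ⟩ := (Ideal.IsPrime.prod_mem_iff (p := P)).mp hmem
    exact hgP Q hQ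
  · by_contra hle
    exact hfQ (Ideal.mem_of_dvd _ (Finset.dvd_prod_of_mem g (Finset.mem_univ ⟨Q, hQ⟩)) (hgQ ⟨Q, hQ⟩ hle))

/-- The localisation at `P` inverts exactly the powers of one element. -/
theorem exists_isLocalization_away {B : Type u} [CommRing B] [Finite (PrimeSpectrum B)] (P : Ideal B) [P.IsPrime]
    (L : Type u) [CommRing L] [Algebra B L] [IsLocalization.AtPrime L P] :
    ∃ f : B, IsLocalization.Away f L := by
  obtain ⟨f, hfP, hf⟩ := exists_elt P
  refine ⟨f, ?_⟩
  haveI h1 : IsLocalization.AtPrime (Localization.Away f) P := by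
    refine IsLocalization.of_le (Submonoid.powers f) P.primeCompl (Submonoid.powers_le.mpr hfP) fun t ht => ?_
    by_contra hu
    obtain ⟨M, hM, htM⟩ := exists_max_ideal_of_mem_nonunits (a := algebraMap B (Localization.Away f) t) hu
    haveI := hM.isPrime
    have hfM : f ∉ M.comap (algebraMap B (Localization.Away f)) := fun h =>
      hM.ne_top (Ideal.eq_top_of_isUnit_mem M h (IsLocalization.Away.algebraMap_isUnit f))
    exact ht (hf _ inferInstance hfM htM)
  exact IsLocalization.isLocalization_of_algEquiv (Submonoid.powers f)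
    (IsLocalization.algEquiv P.primeCompl (Localization.Away f) L)

end Groth.Agent.AtPrimeAway
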